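import Groth.Agent.SmoothDense.GeomReg
import Groth.Agent.FibrewiseCrit.Smooth
import Groth.Agent.J2Lib.Descent
import Groth.Agent.ForSys.Dim
import Groth.Agent.FlatDescent.Point
import Groth.Prelude.Def_FDesc
import Groth.Prelude.Def_CAlg

/-!
# The geometric condition (R_k) of an algebraic scheme and its smooth locus
-/

universe u

open CategoryTheory CategoryTheory.Limits AlgebraicGeometry Topology TopologicalSpace
open scoped TensorProduct

namespace Groth.Agent.GeomRk

/-- The condition (R_k) of a scheme at a point, in terms of its generisations. -/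
def RkAt (Z : Scheme.{u}) (k : ℕ) (x : Z) : Prop :=
  ∀ z : Z, z ⤳ x → ringKrullDim (Z.presheaf.stalk z) ≤ (k : WithBot ℕ∞) → IsRegularLocalRing (Z.presheaf.stalk z)

instance flat_fromSpecStalk (Z : Scheme.{u}) (x : Z) : Flat (Z.fromSpecStalk x) := by
  obtain ⟨_, ⟨U, hU, rfl⟩, hxU, -⟩ := Z.isBasis_affineOpens.exists_subset_of_mem_open (Set.mem_univ x) isOpen_univ
  rw [← hU.fromSpecStalk_eq_fromSpecStalk hxU, IsAffineOpen.fromSpecStalk]
  letI : Algebra Γ(Z, U) (Z.presheaf.stalk x) := (Z.presheaf.germ U x hxU).hom.toAlgebra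
  haveI := hU.isLocalization_stalk ⟨x, hxU⟩
  haveI : Flat (Spec.map (Z.presheaf.germ U x hxU)) :=
    Flat.SpecMap_iff.mpr (RingHom.flat_algebraMap_iff.mpr
      (IsLocalization.flat (Z.presheaf.stalk x) (hU.primeIdealOf ⟨x, hxU⟩).asIdeal.primeCompl))
  infer_instance

theorem exists_stalk_equiv_localization (Z : Scheme.{u}) (x : Z) (p : PrimeSpectrum (Z.presheaf.stalk x)) :
    Nonempty (Localization.AtPrime p.asIdeal ≃+* Z.presheaf.stalk (Z.fromSpecStalk x p)) :=
  ⟨((StructureSheaf.stalkIso (Z.presheaf.stalk x) p).toRingEquiv).trans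
    (RingEquiv.ofBijective _ (Groth.FlatDescent.bijective_stalkMap (Z.fromSpecStalk x) p)).symm⟩

theorem hasRk_stalk_iff (Z : Scheme.{u}) (k : ℕ) (x : Z) :
    LocCoh.HasRk k (Z.presheaf.stalk x) ↔ RkAt Z k x := by
  have hdim : ∀ p : PrimeSpectrum (Z.presheaf.stalk x),
      ringKrullDim (Z.presheaf.stalk (Z.fromSpecStalk x p)) = (p.asIdeal.height : WithBot ℕ∞) := fun p => by
    obtain ⟨e⟩ := exists_stalk_equiv_localization Z x p
    rw [← ringKrullDim_eq_of_ringEquiv e]
    exact IsLocalization.AtPrime.ringKrullDim_eq_height p.asIdeal _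
  constructor
  · intro h z hz hdz
    obtain ⟨p, rfl⟩ : z ∈ Set.range (Z.fromSpecStalk x) := Scheme.range_fromSpecStalk.ge hz
    rw [hdim] at hdz
    haveI := h p.asIdeal (WithBot.coe_le_coe.mp hdz)
    obtain ⟨e⟩ := exists_stalk_equiv_localization Z x p
    exact IsRegularLocalRing.of_ringEquiv e
  · intro h q hq hqk
    let p : PrimeSpectrum (Z.presheaf.stalk x) := ⟨q, hq⟩
    haveI := h _ (Scheme.range_fromSpecStalk.le ⟨p, rfl⟩) ((hdim p).le.trans (WithBot.coe_le_coe.mpr hqk))
    obtain ⟨e⟩ := exists_stalk_equiv_localization Z x p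
    exact IsRegularLocalRing.of_ringEquiv e.symm

variable {k₀ : Type u} [Field k₀] {Z : Scheme.{u}} (g : Z ⟶ Spec (CommRingCat.of k₀)) [LocallyOfFinitePresentation g]

instance flat_bcπ (K : Type u) [Field K] [Algebra k₀ K] : Flat (FBase.bcπ g K) := by
  haveI : Flat (Spec.map (CommRingCat.ofHom (algebraMap k₀ K))) :=
    Flat.SpecMap_iff.mpr (RingHom.flat_algebraMap_iff.mpr inferInstance)
  exact MorphismProperty.pullback_fst _ _ ‹_›

/-- (R_k) after finite extensions forces smoothness at generisations of small codimension. -/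
theorem smooth_of_forall_finite_hasRk (k : ℕ) (x : Z)
    (h : ∀ (K : Type u) [Field K] [Algebra k₀ K], Module.Finite k₀ K → ∀ (x' : ↥(FBase.bc g K)),
      (FBase.bcπ g K).base x' = x → LocCoh.HasRk k ((FBase.bc g K).presheaf.stalk x'))
    (z : Z) (hzx : z ⤳ x) (hz : ringKrullDim (Z.presheaf.stalk z) ≤ (k : WithBot ℕ∞)) : z ∈ g.smoothLocus := by
  obtain ⟨ψ, hψ⟩ : ∃ ψ, Spec.map ψ = Z.fromSpecStalk z ≫ g := ⟨_, Spec.map_preimage _⟩
  letI : Algebra k₀ (Z.presheaf.stalk z) := ψ.hom.toAlgebra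
  have halg : Z.fromSpecStalk z ≫ g = Spec.map (CommRingCat.ofHom (algebraMap k₀ (Z.presheaf.stalk z))) := hψ.symm
  refine SmoothDense.mem_smoothLocus_of_regular_baseChanges halg fun K _ _ hfin z' hz' => ?_
  haveI : IsFinite (Spec.map (CommRingCat.ofHom (algebraMap k₀ K))) :=
    (IsFinite.SpecMap_iff _).mpr (RingHom.finite_algebraMap.mpr hfin)
  haveI : IsFinite (pullback.fst g (Spec.map (CommRingCat.ofHom (algebraMap k₀ K)))) :=
    MorphismProperty.pullback_fst _ _ inferInstance
  obtain ⟨x', hx', hsp⟩ := (pullback.fst g (Spec.map (CommRingCat.ofHom (algebraMap k₀ K)))).isClosedMap.specializingMap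
    (show pullback.fst g (Spec.map (CommRingCat.ofHom (algebraMap k₀ K))) z' ⤳ x by rw [hz']; exact hzx)
  refine (hasRk_stalk_iff _ k x').mp (h K hfin x' hsp) z' hx' ?_
  obtain ⟨w, rfl⟩ := GeomRedAt.exists_toBc_eq g z (Spec.map (CommRingCat.ofHom (algebraMap k₀ K)))
    (z := z') (specializes_of_eq hz')
  let e := GeomRedAt.locIso halg K
  let s : PrimeSpectrum (Z.presheaf.stalk z ⊗[k₀] K) := e.hom w
  let E := ((StructureSheaf.stalkIso (Z.presheaf.stalk z ⊗[k₀] K) s).toRingEquiv.trans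
    (asIso (e.hom.stalkMap w)).commRingCatIsoToRingEquiv).trans
    (RingEquiv.ofBijective _ (Groth.FlatDescent.bijective_stalkMap (GeomRedAt.toBc g z _) w)).symm
  rw [← ringKrullDim_eq_of_ringEquiv E, IsLocalization.AtPrime.ringKrullDim_eq_height s.asIdeal]
  haveI : Algebra.IsIntegral (Z.presheaf.stalk z) (Z.presheaf.stalk z ⊗[k₀] K) :=
    Algebra.IsIntegral.of_finite _ _
  exact (Ideal.height_le_ringKrullDim_of_ne_top s.2.ne_top).trans
    ((ForSys.ringKrullDim_le_of_isIntegral (A := Z.presheaf.stalk z)).trans hz)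

/-- Smoothness at a generisation makes the points above regular; singular ones of small dimension spoil (R_k). -/
theorem hasRk_bc_iff (k : ℕ) (x : Z) :
    (∀ (K : Type u) [Field K] [Algebra k₀ K] (x' : ↥(FBase.bc g K)), (FBase.bcπ g K).base x' = x →
        LocCoh.HasRk k ((FBase.bc g K).presheaf.stalk x')) ↔
      ∀ z : Z, z ⤳ x → ringKrullDim (Z.presheaf.stalk z) ≤ (k : WithBot ℕ∞) → z ∈ g.smoothLocus := by
  constructor
  · intro h z hzx hz
    exact smooth_of_forall_finite_hasRk g k x (fun K _ _ _ => h K) z hzx hz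
  · intro h K _ _ x' hx'
    rw [hasRk_stalk_iff]
    intro z' hz' hd
    let π := FBase.bcπ g K
    letI := (π.stalkMap z').hom.toAlgebra
    haveI : Module.Flat (Z.presheaf.stalk (π z')) ((FBase.bc g K).presheaf.stalk z') := Flat.stalkMap π z'
    haveI : IsLocalHom (algebraMap (Z.presheaf.stalk (π z')) ((FBase.bc g K).presheaf.stalk z')) :=
      π.toLRSHom.prop z'
    have hsm := h (π z') (hx' ▸ hz'.map π.continuous) ((J2Lib.ringKrullDim_le_of_flat _ _).trans hd)
    let g' : FBase.bc g K ⟶ Spec (CommRingCat.of K) :=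
      pullback.snd g (Spec.map (CommRingCat.ofHom (algebraMap k₀ K)))
    haveI : LocallyOfFinitePresentation g' := MorphismProperty.pullback_snd _ _ inferInstance
    haveI : Flat (Spec.map (CommRingCat.ofHom (algebraMap k₀ K))) :=
      Flat.SpecMap_iff.mpr (RingHom.flat_algebraMap_iff.mpr inferInstance)
    exact SmoothDense.isRegular_of_mem_smoothLocus g'
      ((Groth.FibrewiseCrit.mem_smoothLocus_of_isPullback (f' := g') (IsPullback.of_hasPullback _ _) z').mpr hsm)

end Groth.Agent.GeomRk
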