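import Groth.Agent.GeomRk.Basic
import Groth.Agent.FlatDescent.FibreDepth.GenLocus
import Groth.Agent.FlatDescent.FibreDepth.TorsionConstr
import Groth.Agent.S3423

/-!
# Constructibility of the geometric condition (R_k) on the fibres
-/

universe u

open CategoryTheory CategoryTheory.Limits AlgebraicGeometry Topology TopologicalSpace
open Groth.FlatDescent.FibreDepth

namespace Groth.Agent.GeomRk

variable {X S : Scheme.{u}} (f : X ⟶ S) [LocallyOfFinitePresentation f]

instance lofp_fibre (s : S) : LocallyOfFinitePresentation (f.fiberToSpecResidueField s) :=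
  MorphismProperty.pullback_snd _ _ ‹LocallyOfFinitePresentation f›

/-- The fibre through a point satisfies the geometric condition (R_k) there. -/
def RkLocus (k : ℕ) : Set X :=
  {x : X | ∀ (K : Type u) [Field K] [Algebra (IsLocalRing.ResidueField (S.presheaf.stalk (f.base x))) K]
      (x' : ↥(FBase.bc (f.fiberToSpecResidueField (f.base x)) K)),
      (FBase.bcπ (f.fiberToSpecResidueField (f.base x)) K).base x' = f.asFiber x →
        LocCoh.HasRk k ((FBase.bc (f.fiberToSpecResidueField (f.base x)) K).presheaf.stalk x')}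

/-- The smooth points of the fibres. -/
def SmLocus : Set X := {x : X | f.asFiber x ∈ (f.fiberToSpecResidueField (f.base x)).smoothLocus}

theorem mem_smLocus_fiberι {s : S} (v : f.fiber s) :
    f.fiberι s v ∈ SmLocus f ↔ v ∈ (f.fiberToSpecResidueField s).smoothLocus := by
  refine fiber_cases f v (motive := fun s v =>
    f.fiberι s v ∈ SmLocus f ↔ v ∈ (f.fiberToSpecResidueField s).smoothLocus) ?_
  rw [f.fiberι_asFiber]
  rfl

theorem mem_rkLocus_iff (k : ℕ) (x : X) :
    x ∈ RkLocus f k ↔ ∀ z : X, z ⤳ x → f z = f x →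
      psdm f (Coh.structureModule X) z ≤ (k : WithBot ℕ∞) → z ∈ SmLocus f := by
  refine (@hasRk_bc_iff (IsLocalRing.ResidueField (S.presheaf.stalk (f.base x))) _ (f.fiber (f x))
    (f.fiberToSpecResidueField (f x)) (lofp_fibre f (f x)) k (f.asFiber x)).trans ⟨fun h z hzx hf hd => ?_, fun h v hv hd => ?_⟩
  · obtain ⟨v, rfl⟩ : z ∈ Set.range (f.fiberι (f x)) := (f.range_fiberι _).ge hf
    rw [← ringKrullDim_fibre_eq f v] at hd
    refine (mem_smLocus_fiberι f v).mpr (h v ((fiberι_specializes f).mp ?_) hd)
    rwa [f.fiberι_asFiber]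
  · rw [ringKrullDim_fibre_eq f v] at hd
    refine (mem_smLocus_fiberι f v).mp (h _ ?_ (apply_fiberι f v) hd)
    simpa only [f.fiberι_asFiber] using (fiberι_specializes f).mpr hv

theorem isLocallyConstructible_smLocus : IsLocallyConstructible (SmLocus f) :=
  Groth.Agent.S3423.result f

theorem isLocallyConstructible_rkLocus (k : ℕ) : IsLocallyConstructible (RkLocus f k) := by
  have hO := isFP_structureModule X
  refine isLocallyConstructible_congr fun x => ?_
  obtain ⟨W, d, hxW, hW⟩ := exists_nhds_delta_le f _ hO x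
  refine ⟨W, W.2, hxW, (⋃ m : Fin (d + 1), genLocus f ((SmLocus f)ᶜ ∩
    {z | delta f (Coh.structureModule X) z ≤ ((m : ℕ) : WithBot ℕ∞)}) (m - k))ᶜ, ?_, ?_⟩
  · exact isLocallyConstructible_compl (IsLocallyConstructible.iUnion fun m =>
      isLocallyConstructible_genLocus f ((isLocallyConstructible_compl (isLocallyConstructible_smLocus f)).inter
        (isLocallyConstructible_delta_le f _ hO _)) _)
  ext y
  simp only [Set.mem_inter_iff, Set.mem_compl_iff, Set.mem_iUnion, not_exists]
  refine and_congr_right fun hy => ⟨fun h m hm => ?_, fun h => ?_⟩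
  · obtain ⟨z, ⟨hzN, hzm⟩, hzy, hf, hc⟩ := hm
    refine hzN ((mem_rkLocus_iff f k y).mp h z hzy hf ?_)
    rcases nat_data f _ hO z with ⟨hz, -⟩ | ⟨-, D, e, c, hD, -, hc', -, -, hδ⟩
    · exact absurd (mem_Sp_structureModule z) hz
    change delta f _ z ≤ _ at hzm
    rw [hδ, Nat.cast_le] at hzm
    rw [hc', Nat.cast_le] at hc
    rw [hD, Nat.cast_le]
    omega
  · rw [mem_rkLocus_iff]
    intro z hzy hf hd
    by_contra hzN
    rcases nat_data f _ hO z with ⟨hz, -⟩ | ⟨-, D, e, c, hD, -, hc', -, -, hδ⟩
    · exact absurd (mem_Sp_structureModule z) hz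
    have hle := hW z (hzy.mem_open W.2 hy)
    rw [hδ, Nat.cast_le] at hle
    rw [hD, Nat.cast_le] at hd
    exact h ⟨D + c, by omega⟩ ⟨z, ⟨hzN, hδ.le⟩, hzy, hf, by rw [hc', Nat.cast_le]; dsimp only; omega⟩

theorem isLocallyConstructible_forall_rk [QuasiCompact f] (k : ℕ) :
    IsLocallyConstructible {s : S |
      ∀ (K : Type u) [Field K] [Algebra (IsLocalRing.ResidueField (S.presheaf.stalk s)) K]
        (x' : ↥(FBase.bc (f.fiberToSpecResidueField s) K)),
        LocCoh.HasRk k ((FBase.bc (f.fiberToSpecResidueField s) K).presheaf.stalk x')} := by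
  convert isLocallyConstructible_compl (f.isLocallyConstructible_image
    (isLocallyConstructible_compl (isLocallyConstructible_rkLocus f k))) using 1
  ext s
  simp only [Set.mem_setOf_eq, Set.mem_compl_iff, Set.mem_image, not_exists, not_and', not_not]
  constructor
  · intro h x hx
    subst hx
    exact fun K _ _ x' _ => h K x'
  · intro h K _ _ x'
    have key : ∀ (s : S) (v : f.fiber s), f.fiberι s v ∈ RkLocus f k → ∀ (K : Type u) [Field K]
        [Algebra (IsLocalRing.ResidueField (S.presheaf.stalk s)) K] (x' : ↥(FBase.bc (f.fiberToSpecResidueField s) K)),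
        (FBase.bcπ (f.fiberToSpecResidueField s) K).base x' = v →
        LocCoh.HasRk k ((FBase.bc (f.fiberToSpecResidueField s) K).presheaf.stalk x') := by
      intro s v
      refine fiber_cases f v (motive := fun s v => f.fiberι s v ∈ RkLocus f k → ∀ (K : Type u) [Field K]
        [Algebra (IsLocalRing.ResidueField (S.presheaf.stalk s)) K] (x' : ↥(FBase.bc (f.fiberToSpecResidueField s) K)),
        (FBase.bcπ (f.fiberToSpecResidueField s) K).base x' = v →
        LocCoh.HasRk k ((FBase.bc (f.fiberToSpecResidueField s) K).presheaf.stalk x')) ?_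
      rw [f.fiberι_asFiber]
      exact fun h => h
    exact key s _ (h _ (apply_fiberι f _)) K x' rfl

end Groth.Agent.GeomRk
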