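import Groth.Agent.GeomRk.Constr
import Groth.Agent.FlatDescent.FibreDepth.Constr
import Groth.Agent.DepthLib.SerreNormal

/-!
# Constructibility of geometric normality of the fibres
-/

universe u

open CategoryTheory CategoryTheory.Limits AlgebraicGeometry Topology TopologicalSpace
open Groth.FlatDescent.FibreDepth

namespace Groth.Agent.GeomRk

/-- Serre's criterion for a Noetherian local ring. -/
theorem normal_iff (R : Type u) [CommRing R] [IsLocalRing R] [IsNoetherianRing R] :
    (IsDomain R ∧ IsIntegrallyClosed R) ↔ (LocCoh.HasRk 1 R ∧ LocCoh.HasSk 2 R R) := by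
  constructor
  · rintro ⟨hd, hi⟩
    exact DepthLib.hasRk_one_hasSk_two_of_normal fun p _ =>
      ⟨inferInstance, isIntegrallyClosed_of_isLocalization _ p.primeCompl p.primeCompl_le_nonZeroDivisors⟩
  · rintro ⟨h1, h2⟩
    obtain ⟨hd, hi⟩ := DepthLib.normal_of_hasRk_one_hasSk_two h1 h2 (IsLocalRing.maximalIdeal R)
    let e := (IsLocalization.atUnits R (IsLocalRing.maximalIdeal R).primeCompl
      (S := Localization.AtPrime (IsLocalRing.maximalIdeal R)) fun a ha =>
        IsLocalRing.notMem_maximalIdeal.mp ha).toRingEquiv
    exact ⟨e.toMulEquiv.isDomain _, IsIntegrallyClosed.of_equiv e.symm⟩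

variable {X S : Scheme.{u}} (f : X ⟶ S) [LocallyOfFinitePresentation f]

/-- The fibre through a point is geometrically normal there. -/
def NormalLocus : Set X :=
  {x : X | ∀ (K : Type u) [Field K] [Algebra (IsLocalRing.ResidueField (S.presheaf.stalk (f.base x))) K]
        (x' : ↥(FBase.bc (f.fiberToSpecResidueField (f.base x)) K)),
        (FBase.bcπ (f.fiberToSpecResidueField (f.base x)) K).base x' = f.asFiber x →
          (IsDomain ((FBase.bc (f.fiberToSpecResidueField (f.base x)) K).presheaf.stalk x') ∧ IsIntegrallyClosed ((FBase.bc (f.fiberToSpecResidueField (f.base x)) K).presheaf.stalk x'))}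

theorem normalLocus_eq : NormalLocus f = RkLocus f 1 ∩ fibLocus (fun R _ _ => LocCoh.HasSk 2 R R) f := by
  ext x
  let κ := IsLocalRing.ResidueField (S.presheaf.stalk (f.base x))
  let g : f.fiber (f.base x) ⟶ Spec (CommRingCat.of κ) := f.fiberToSpecResidueField (f.base x)
  haveI hg : LocallyOfFinitePresentation g := lofp_fibre f (f x)
  have key : ∀ (K : Type u) [Field K] [Algebra κ K] (x' : ↥(FBase.bc g K)),
      (IsDomain ((FBase.bc g K).presheaf.stalk x') ∧ IsIntegrallyClosed ((FBase.bc g K).presheaf.stalk x')) ↔
        (LocCoh.HasRk 1 ((FBase.bc g K).presheaf.stalk x') ∧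
          LocCoh.HasSk 2 ((f.fiber (f.base x)).presheaf.stalk ((FBase.bcπ g K).base x'))
            ((f.fiber (f.base x)).presheaf.stalk ((FBase.bcπ g K).base x'))) := by
    intro K _ _ x'
    haveI hgt : LocallyOfFiniteType g := @instLocallyOfFiniteTypeOfLocallyOfFinitePresentation _ _ g hg
    have hsnd : LocallyOfFiniteType (pullback.snd g (Spec.map (CommRingCat.ofHom (algebraMap κ K)))) :=
      MorphismProperty.pullback_snd _ _ hgt
    haveI : IsLocallyNoetherian (FBase.bc g K) :=
      @LocallyOfFiniteType.isLocallyNoetherian _ _ (pullback.snd g (Spec.map (CommRingCat.ofHom (algebraMap κ K)))) hsnd _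
    rw [normal_iff]
    refine and_congr_right' ?_
    exact field_scheme (good_hasSk 2) (Field.toIsField κ) (Field.toIsField K) g (IsPullback.of_hasPullback _ _) x'
  constructor
  · intro h
    refine ⟨fun K _ _ x' hx' => ((key K x').mp (h K x' hx')).1, ?_⟩
    haveI : IsIso (Spec.map (CommRingCat.ofHom (algebraMap κ κ))) := by
      rw [Algebra.algebraMap_self, show CommRingCat.ofHom (RingHom.id κ) = 𝟙 (CommRingCat.of κ) from rfl, Spec.map_id]
      infer_instance
    haveI : IsIso (FBase.bcπ g κ) := by
      unfold FBase.bcπ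
      exact pullback_fst_iso_of_right_iso g (Spec.map (CommRingCat.ofHom (algebraMap κ κ)))
    obtain ⟨x', hx'⟩ := (FBase.bcπ g κ).homeomorph.surjective (f.asFiber x)
    have h2 := ((key κ x').mp (h κ x' hx')).2
    rw [show (FBase.bcπ g κ).base x' = f.asFiber x from hx'] at h2
    exact h2
  · rintro ⟨h1, h2⟩ K _ _ x' hx'
    refine (key K x').mpr ⟨h1 K x' hx', ?_⟩
    rw [show (FBase.bcπ g K).base x' = f.asFiber x from hx']
    exact h2

theorem isLocallyConstructible_normalLocus : IsLocallyConstructible (NormalLocus f) := by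
  rw [normalLocus_eq]
  exact (isLocallyConstructible_rkLocus f 1).inter (isLocallyConstructible_fibLocus (good_hasSk 2) f)

theorem isLocallyConstructible_forall_normal [QuasiCompact f] :
    IsLocallyConstructible {s : S |
      ∀ (K : Type u) [Field K] [Algebra (IsLocalRing.ResidueField (S.presheaf.stalk s)) K]
        (x' : ↥(FBase.bc (f.fiberToSpecResidueField s) K)),
        IsDomain ((FBase.bc (f.fiberToSpecResidueField s) K).presheaf.stalk x') ∧
          IsIntegrallyClosed ((FBase.bc (f.fiberToSpecResidueField s) K).presheaf.stalk x')} := by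
  convert isLocallyConstructible_compl (f.isLocallyConstructible_image
    (isLocallyConstructible_compl (isLocallyConstructible_normalLocus f))) using 1
  ext s
  simp only [Set.mem_setOf_eq, Set.mem_compl_iff, Set.mem_image, not_exists, not_and', not_not]
  constructor
  · intro h x hx
    subst hx
    exact fun K _ _ x' _ => h K x'
  · intro h K _ _ x'
    have key : ∀ (s : S) (v : f.fiber s), f.fiberι s v ∈ NormalLocus f → ∀ (K : Type u) [Field K]
        [Algebra (IsLocalRing.ResidueField (S.presheaf.stalk s)) K] (x' : ↥(FBase.bc (f.fiberToSpecResidueField s) K)),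
        (FBase.bcπ (f.fiberToSpecResidueField s) K).base x' = v →
        (IsDomain ((FBase.bc (f.fiberToSpecResidueField s) K).presheaf.stalk x') ∧
          IsIntegrallyClosed ((FBase.bc (f.fiberToSpecResidueField s) K).presheaf.stalk x')) := by
      intro s v
      refine fiber_cases f v (motive := fun s v => f.fiberι s v ∈ NormalLocus f → ∀ (K : Type u) [Field K]
        [Algebra (IsLocalRing.ResidueField (S.presheaf.stalk s)) K] (x' : ↥(FBase.bc (f.fiberToSpecResidueField s) K)),
        (FBase.bcπ (f.fiberToSpecResidueField s) K).base x' = v →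
        (IsDomain ((FBase.bc (f.fiberToSpecResidueField s) K).presheaf.stalk x') ∧
          IsIntegrallyClosed ((FBase.bc (f.fiberToSpecResidueField s) K).presheaf.stalk x'))) ?_
      rw [f.fiberι_asFiber]
      exact fun h => h
    exact key s _ (h _ (apply_fiberι f _)) K x' rfl

end Groth.Agent.GeomRk
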