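import Groth.Agent.GeomRk.Constr
import Groth.Agent.FlatDescent.FibreDepth.Main
import Groth.Agent.FibrewiseCrit.Pointwise
import Groth.Agent.DepthLib.Sk
import Groth.Agent.DepthLib.Reduced
import Groth.Prelude.Def_EGA4b

/-!
# Openness of geometric (R_k) with equidimensionality and no embedded points, flat case
-/

universe u

open CategoryTheory CategoryTheory.Limits AlgebraicGeometry Topology TopologicalSpace LocCoh
open Groth.FlatDescent.FibreDepth

namespace Groth.Agent.GeomRk

variable {X Y : Scheme.{u}} (f : X ⟶ Y) [LocallyOfFinitePresentation f]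

theorem depth_stalk_eq {y : Y} (v : f.fiber y) :
    depth ((f.fiber y).presheaf.stalk v) ((f.fiber y).presheaf.stalk v) =
      pdepth f (Coh.structureModule X) (f.fiberι y v) := by
  refine fiber_cases f v (motive := fun y v => depth ((f.fiber y).presheaf.stalk v) ((f.fiber y).presheaf.stalk v) =
      pdepth f (Coh.structureModule X) (f.fiberι y v)) ?_
  rw [f.fiberι_asFiber]
  exact (ring_invariants f _).1

/-- No embedded associated cycle through a point, in terms of its generisations. -/
theorem associatedPrimes_subset_iff (x : X) :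
    (∀ p ∈ associatedPrimes ↑((f.fiber (f.base x)).presheaf.stalk (f.asFiber x)) ↑((f.fiber (f.base x)).presheaf.stalk (f.asFiber x)),
        p ∈ minimalPrimes ↑((f.fiber (f.base x)).presheaf.stalk (f.asFiber x))) ↔
      ∀ z : X, z ⤳ x → f z = f x → pdepth f (Coh.structureModule X) z = 0 →
        ∀ w : X, w ⤳ z → f w = f z → w = z := by
  let Z := f.fiber (f.base x)
  let v := f.asFiber x
  let R := Z.presheaf.stalk v
  haveI : IsNoetherianRing R := isNoetherianRing_fibre_stalk f v
  let ι := Z.fromSpecStalk v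
  have hdepth : ∀ p : PrimeSpectrum R, p.asIdeal ∈ associatedPrimes R R ↔
      pdepth f (Coh.structureModule X) (f.fiberι (f.base x) (ι p)) = 0 := fun p => by
    haveI : IsNoetherianRing (Localization.AtPrime p.asIdeal) := IsLocalization.isNoetherianRing p.asIdeal.primeCompl _ inferInstance
    obtain ⟨e⟩ := exists_stalk_equiv_localization Z v p
    rw [← depth_stalk_eq f, ← depth_ringEquiv e, ← DepthLib.depth_localization_self,
      DepthLib.depth_localization_eq_zero_iff]
  have hle : ∀ p q : PrimeSpectrum R, f.fiberι (f.base x) (ι p) ⤳ f.fiberι (f.base x) (ι q) ↔ p.asIdeal ≤ q.asIdeal :=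
    fun p q => by
      rw [fiberι_specializes, ι.isEmbedding.toIsInducing.specializes_iff]
      exact (PrimeSpectrum.le_iff_specializes p q).symm
  have hgen : ∀ z : X, z ⤳ x → f z = f x → ∃ p : PrimeSpectrum R, f.fiberι (f.base x) (ι p) = z := by
    intro z hzx hf
    obtain ⟨u, rfl⟩ : z ∈ Set.range (f.fiberι (f.base x)) := (f.range_fiberι _).ge hf
    obtain ⟨p, rfl⟩ : u ∈ Set.range ι := Scheme.range_fromSpecStalk.ge
      ((fiberι_specializes f).mp (by rwa [f.fiberι_asFiber]))
    exact ⟨p, rfl⟩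
  have hsp : ∀ p : PrimeSpectrum R, f.fiberι (f.base x) (ι p) ⤳ x := fun p => by
    have h : ι p ⤳ v := Scheme.range_fromSpecStalk.le ⟨p, rfl⟩
    simpa only [f.fiberι_asFiber, v] using (fiberι_specializes f).mpr h
  constructor
  · intro h z hzx hf hz w hwz hfw
    obtain ⟨p, rfl⟩ := hgen z hzx hf
    obtain ⟨q, rfl⟩ := hgen w (hwz.trans hzx) (hfw.trans hf)
    have hmin := h _ ((hdepth p).mpr hz)
    have hqp := (hle q p).mp hwz
    rw [PrimeSpectrum.ext (le_antisymm hqp (hmin.2 ⟨q.2, bot_le⟩ hqp))]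
  · intro h p hp
    haveI : p.IsPrime := hp.1
    refine ⟨⟨hp.1, bot_le⟩, fun q hq hqp => ?_⟩
    let P : PrimeSpectrum R := ⟨p, hp.1⟩
    let Q : PrimeSpectrum R := ⟨q, hq.1⟩
    have := h _ (hsp P) (apply_fiberι f _) ((hdepth P).mp hp) (f.fiberι (f.base x) (ι Q))
      ((hle Q P).mpr hqp) ((apply_fiberι f _).trans (apply_fiberι f _).symm)
    exact (hle P Q).mp (specializes_of_eq this.symm)

theorem isEquidim_ring_iff (x : X) :
    EGA4.IsEquidim ↑((f.fiber (f.base x)).presheaf.stalk (f.asFiber x)) ↔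
      ∀ z : X, z ⤳ x → f z = f x → (∀ w : X, w ⤳ z → f w = f z → w = z) →
        FibreDim.fdim f z = delta f (Coh.structureModule X) x := by
  have h := isEquidim_iff f (Coh.structureModule X) (isFP_structureModule X) x
  obtain ⟨e⟩ := nonempty_fibN_equiv f (f.asFiber x)
  have hd := supportDim_fibN_eq f (Coh.structureModule X) (isFP_structureModule X) (f.asFiber x)
  rw [← ringKrullDim_fibre_eq f (f.asFiber x)] at hd
  have h2 : EGA4.IsEquidim ↑((f.fiber (f.base x)).presheaf.stalk (f.asFiber x)) ↔ EGA4.IsEquidimModule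
      ((f.fiber (f x)).presheaf.stalk (f.asFiber x)) (fibN f (Coh.structureModule X) (f.asFiber x)) := by
    unfold EGA4.IsEquidim EGA4.IsEquidimModule
    rw [e.annihilator_eq, Module.annihilator_eq_bot.mpr inferInstance, hd]
  rw [h2, h]
  refine forall_congr' fun z => forall_congr' fun hzx => forall_congr' fun hf => ⟨fun hh hmin => ?_, fun hh _ hmin => ?_⟩
  · exact hh (mem_Sp_structureModule z) fun w hwz hfw _ => hmin w hwz (hfw.trans hf.symm)
  · exact hh fun w hwz hfw => hmin w hwz (hfw.trans hf) (mem_Sp_structureModule w)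

/-- Equidimensional without embedded cycles: all associated points above have the dimension at the point. -/
theorem equidim_noEmbedded_iff (x : X) :
    (EGA4.IsEquidim ↑((f.fiber (f.base x)).presheaf.stalk (f.asFiber x)) ∧
      ∀ p ∈ associatedPrimes ↑((f.fiber (f.base x)).presheaf.stalk (f.asFiber x)) ↑((f.fiber (f.base x)).presheaf.stalk (f.asFiber x)),
        p ∈ minimalPrimes ↑((f.fiber (f.base x)).presheaf.stalk (f.asFiber x))) ↔
      ∀ z : X, z ⤳ x → f z = f x → pdepth f (Coh.structureModule X) z = 0 →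
        FibreDim.fdim f z = delta f (Coh.structureModule X) x := by
  have hO := isFP_structureModule X
  rw [isEquidim_ring_iff, associatedPrimes_subset_iff]
  constructor
  · rintro ⟨h1, h2⟩ z hzx hf hz
    exact h1 z hzx hf (h2 z hzx hf hz)
  · intro h
    refine ⟨fun z hzx hf hmin => h z hzx hf
      (minimal_data f _ hO (mem_Sp_structureModule z) fun w _ => hmin w).1, fun z hzx hf hz w hwz hfw => ?_⟩
    by_contra hne
    obtain ⟨u, huw, hfu, -, hu, hmin⟩ := exists_minimal_below f _ hO (mem_Sp_structureModule w)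
    have hu0 := (minimal_data f _ hO (mem_Sp_structureModule u) hmin).1
    have h1 := h u ((huw.trans hwz).trans hzx) ((hfu.trans hfw).trans hf) hu0
    have h2 := (fdim_lt_of_ne f _ hO hwz hfw hne).trans_le
      ((fdim_le_delta f _ hO specializes_rfl rfl (mem_Sp_structureModule w)).trans hu.ge)
    rw [h z hzx hf hz, h1] at h2
    exact lt_irrefl _ h2

theorem isClosed_compl_smLocus [Flat f] : IsClosed (SmLocus f)ᶜ := by
  have h : SmLocus f = (f.smoothLocus : Set X) := by
    ext x
    show _ ↔ x ∈ f.smoothLocus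
    rw [Groth.FibrewiseCrit.mem_smoothLocus_iff_flat_and_fibre]
    exact ⟨fun h => ⟨Flat.stalkMap f x, h⟩, fun h => h.2⟩
  rw [h]
  exact f.smoothLocus.2.isClosed_compl

theorem forall_finite_hasRk_iff (k : ℕ) (x : X) :
    (∀ (K : Type u) [Field K] [Algebra (IsLocalRing.ResidueField (Y.presheaf.stalk (f.base x))) K],
        Module.Finite (IsLocalRing.ResidueField (Y.presheaf.stalk (f.base x))) K →
        ∀ x' : ↥(FBase.bc (f.fiberToSpecResidueField (f.base x)) K),
          (FBase.bcπ (f.fiberToSpecResidueField (f.base x)) K).base x' = f.asFiber x →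
          LocCoh.HasRk k ((FBase.bc (f.fiberToSpecResidueField (f.base x)) K).presheaf.stalk x')) ↔
      ∀ z : X, z ⤳ x → f z = f x →
        psdm f (Coh.structureModule X) z ≤ (k : WithBot ℕ∞) → z ∈ SmLocus f := by
  constructor
  · intro h z hzx hf hd
    obtain ⟨v, rfl⟩ : z ∈ Set.range (f.fiberι (f x)) := (f.range_fiberι _).ge hf
    rw [← ringKrullDim_fibre_eq f v] at hd
    refine (mem_smLocus_fiberι f v).mpr ?_
    have hv : v ⤳ f.asFiber x := (fiberι_specializes f).mp (by rwa [f.fiberι_asFiber])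
    exact @smooth_of_forall_finite_hasRk (IsLocalRing.ResidueField (Y.presheaf.stalk (f.base x))) _ (f.fiber (f x))
      (f.fiberToSpecResidueField (f x)) (lofp_fibre f (f x)) k (f.asFiber x) h v hv hd
  · intro h K _ _ _
    exact (mem_rkLocus_iff f k x).mpr h K

/-- **Openness.** -/
theorem isOpen_geomRk_equidim_noEmbedded [Flat f] (k : ℕ) :
    IsOpen {x : X | (∀ (K : Type u) [Field K] [Algebra (IsLocalRing.ResidueField (Y.presheaf.stalk (f.base x))) K],
        Module.Finite (IsLocalRing.ResidueField (Y.presheaf.stalk (f.base x))) K →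
        ∀ x' : ↥(FBase.bc (f.fiberToSpecResidueField (f.base x)) K),
          (FBase.bcπ (f.fiberToSpecResidueField (f.base x)) K).base x' = f.asFiber x →
          LocCoh.HasRk k ((FBase.bc (f.fiberToSpecResidueField (f.base x)) K).presheaf.stalk x')) ∧
      EGA4.IsEquidim ↑((f.fiber (f.base x)).presheaf.stalk (f.asFiber x)) ∧ (∀ p ∈ associatedPrimes ↑((f.fiber (f.base x)).presheaf.stalk (f.asFiber x)) ↑((f.fiber (f.base x)).presheaf.stalk (f.asFiber x)), p ∈ minimalPrimes ↑((f.fiber (f.base x)).presheaf.stalk (f.asFiber x)))} := by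
  simp_rw [equidim_noEmbedded_iff f, forall_finite_hasRk_iff f k]
  have hO := isFP_structureModule X
  have hflat := isFlatOver_structureModule f
  refine isOpen_iff_forall_mem_open.mpr fun x ⟨hxR, hxE⟩ => ?_
  rcases nat_data f _ hO x with ⟨h, -⟩ | ⟨-, D, e, c, -, -, -, -, -, hδ⟩
  · exact absurd (mem_Sp_structureModule x) h
  let U : Set X := {y | delta f (Coh.structureModule X) y ≤ ((D + c : ℕ) : WithBot ℕ∞)} ∩
    AssDimAt f (Coh.structureModule X) {D + c}
  have hδU : ∀ y ∈ U, delta f (Coh.structureModule X) y = ((D + c : ℕ) : WithBot ℕ∞) := by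
    rintro y ⟨-, hy⟩
    obtain ⟨w, hwy, hfw, -, hw, hmin⟩ := exists_minimal_below f _ hO (mem_Sp_structureModule y)
    obtain ⟨n, hn, hwn⟩ := hy w hwy hfw (minimal_data f _ hO (mem_Sp_structureModule w) hmin).1
    rw [← hw, hwn, Finset.mem_singleton.mp hn]
  have hUo : IsOpen U := (isOpen_delta_le f _ hO _).inter (isOpen_assDimAt f _ hO hflat _)
  refine ⟨U ∩ {y | ∀ z ∈ (SmLocus f)ᶜ, z ⤳ y → f z = f y →
    FibreDim.fdim f z < ((D + c - k : ℕ) : WithBot ℕ∞)}, fun y ⟨hyU, hy⟩ => ⟨fun z hzy hf hd => ?_, fun z hzy hf hz => ?_⟩,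
    hUo.inter (isOpen_forall_fdim_lt f (isClosed_compl_smLocus f) _), ⟨⟨hδ.le, fun z hzx hf hz => ?_⟩, fun z hzN hzx hf => ?_⟩⟩
  · by_contra hzN
    have h1 := hy z hzN hzy hf
    rcases nat_data f _ hO z with ⟨h, -⟩ | ⟨-, D', e', c', hD', -, hc', -, -, hδ'⟩
    · exact absurd (mem_Sp_structureModule z) h
    have h2 := hδU z (hzy.mem_open hUo hyU)
    rw [hδ', Nat.cast_inj] at h2
    rw [hc', Nat.cast_lt] at h1
    rw [hD', Nat.cast_le] at hd
    omega
  · obtain ⟨n, hn, hzn⟩ := hyU.2 z hzy hf hz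
    rw [hzn, Finset.mem_singleton.mp hn, hδU y hyU]
  · exact ⟨D + c, Finset.mem_singleton_self _, (hxE z hzx hf hz).trans hδ⟩
  · have hzU : z ∈ U := hzx.mem_open hUo ⟨hδ.le, fun w hwx hfw hw =>
      ⟨D + c, Finset.mem_singleton_self _, (hxE w hwx hfw hw).trans hδ⟩⟩
    rcases nat_data f _ hO z with ⟨h, -⟩ | ⟨-, D', e', c', hD', -, hc', -, -, hδ'⟩
    · exact absurd (mem_Sp_structureModule z) h
    have h2 := hδU z hzU
    rw [hδ', Nat.cast_inj] at h2
    rw [hc', Nat.cast_lt]
    by_contra hlt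
    exact hzN (hxR z hzx hf (by rw [hD', Nat.cast_le]; omega))

end Groth.Agent.GeomRk
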