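import Groth.Agent.GeomRk.Open
import Groth.Agent.GeomRk.Normal

/-!
# Openness of geometric normality and smoothness of the fibres
-/

universe u

open CategoryTheory CategoryTheory.Limits AlgebraicGeometry Topology TopologicalSpace LocCoh
open Groth.FlatDescent Groth.FlatDescent.FibreDepth

namespace Groth.Agent.GeomRk

variable {X Y : Scheme.{u}} (f : X ⟶ Y) [LocallyOfFinitePresentation f]

/-- Geometric (R_k) through finite extensions. -/
def RkFin (k : ℕ) : Set X :=
  {x : X | ∀ z : X, z ⤳ x → f z = f x → psdm f (Coh.structureModule X) z ≤ (k : WithBot ℕ∞) → z ∈ SmLocus f}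

/-- Geometric normality through finite extensions. -/
def NormalFin : Set X :=
  {x : X | ∀ (K : Type u) [Field K] [Algebra (IsLocalRing.ResidueField (Y.presheaf.stalk (f.base x))) K],
        Module.Finite (IsLocalRing.ResidueField (Y.presheaf.stalk (f.base x))) K →
        ∀ x' : ↥(FBase.bc (f.fiberToSpecResidueField (f.base x)) K),
          (FBase.bcπ (f.fiberToSpecResidueField (f.base x)) K).base x' = f.asFiber x →
          IsDomain ((FBase.bc (f.fiberToSpecResidueField (f.base x)) K).presheaf.stalk x') ∧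
            IsIntegrallyClosed ((FBase.bc (f.fiberToSpecResidueField (f.base x)) K).presheaf.stalk x')}

/-- The stalks of the fibre satisfy (S_2). -/
def SkTwo : Set X :=
  fibLocus (fun R _ _ => HasSk 2 R R) f

theorem normalFin_iff (x : X) : x ∈ NormalFin f ↔ x ∈ RkFin f 1 ∧ x ∈ SkTwo f := by
  let κ := IsLocalRing.ResidueField (Y.presheaf.stalk (f.base x))
  let g : f.fiber (f.base x) ⟶ Spec (CommRingCat.of κ) := f.fiberToSpecResidueField (f.base x)
  haveI hg : LocallyOfFinitePresentation g := lofp_fibre f (f x)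
  have key : ∀ (K : Type u) [Field K] [Algebra κ K] (x' : ↥(FBase.bc g K)),
      (IsDomain ((FBase.bc g K).presheaf.stalk x') ∧ IsIntegrallyClosed ((FBase.bc g K).presheaf.stalk x')) ↔
        (LocCoh.HasRk 1 ((FBase.bc g K).presheaf.stalk x') ∧
          LocCoh.HasSk 2 ((f.fiber (f.base x)).presheaf.stalk ((FBase.bcπ g K).base x'))
            ((f.fiber (f.base x)).presheaf.stalk ((FBase.bcπ g K).base x'))) := by
    intro K _ _ x'
    haveI hgt : LocallyOfFiniteType g := @instLocallyOfFiniteTypeOfLocallyOfFinitePresentation _ _ g hg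
    have hsnd : LocallyOfFiniteType (pullback.snd g (Spec.map (CommRingCat.ofHom (algebraMap κ K)))) :=
      MorphismProperty.pullback_snd _ _ hgt
    haveI : IsLocallyNoetherian (FBase.bc g K) :=
      @LocallyOfFiniteType.isLocallyNoetherian _ _ (pullback.snd g (Spec.map (CommRingCat.ofHom (algebraMap κ K)))) hsnd _
    rw [normal_iff]
    refine and_congr_right' ?_
    exact field_scheme (good_hasSk 2) (Field.toIsField κ) (Field.toIsField K) g (IsPullback.of_hasPullback _ _) x'
  constructor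
  · intro h
    refine ⟨(forall_finite_hasRk_iff f 1 x).mp fun K _ _ hK x' hx' => ((key K x').mp (h K hK x' hx')).1, ?_⟩
    haveI : IsIso (Spec.map (CommRingCat.ofHom (algebraMap κ κ))) := by
      rw [Algebra.algebraMap_self, show CommRingCat.ofHom (RingHom.id κ) = 𝟙 (CommRingCat.of κ) from rfl, Spec.map_id]
      infer_instance
    haveI : IsIso (FBase.bcπ g κ) := by
      unfold FBase.bcπ
      exact pullback_fst_iso_of_right_iso g (Spec.map (CommRingCat.ofHom (algebraMap κ κ)))
    obtain ⟨x', hx'⟩ := (FBase.bcπ g κ).homeomorph.surjective (f.asFiber x)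
    have h2 := ((key κ x').mp (h κ inferInstance x' hx')).2
    rw [show (FBase.bcπ g κ).base x' = f.asFiber x from hx'] at h2
    exact h2
  · rintro ⟨h1, h2⟩ K _ _ hK x' hx'
    refine (key K x').mpr ⟨(forall_finite_hasRk_iff f 1 x).mpr h1 K hK x' hx', ?_⟩
    rw [show (FBase.bcπ g K).base x' = f.asFiber x from hx']
    exact h2

theorem isDomain_of_mem_normalFin {x : X} (h : x ∈ NormalFin f) :
    IsDomain ((f.fiber (f.base x)).presheaf.stalk (f.asFiber x)) := by
  let κ := IsLocalRing.ResidueField (Y.presheaf.stalk (f.base x))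
  let g : f.fiber (f.base x) ⟶ Spec (CommRingCat.of κ) := f.fiberToSpecResidueField (f.base x)
  haveI : IsIso (Spec.map (CommRingCat.ofHom (algebraMap κ κ))) := by
    rw [Algebra.algebraMap_self, show CommRingCat.ofHom (RingHom.id κ) = 𝟙 (CommRingCat.of κ) from rfl, Spec.map_id]
    infer_instance
  haveI : IsIso (FBase.bcπ g κ) := by
    unfold FBase.bcπ
    exact pullback_fst_iso_of_right_iso g (Spec.map (CommRingCat.ofHom (algebraMap κ κ)))
  obtain ⟨x', hx'⟩ := (FBase.bcπ g κ).homeomorph.surjective (f.asFiber x)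
  haveI := (h κ inferInstance x' hx').1
  let E := (asIso ((FBase.bcπ g κ).stalkMap x')).commRingCatIsoToRingEquiv
  haveI := E.toMulEquiv.isDomain _
  exact (show (FBase.bcπ g κ) x' = f.asFiber x from hx') ▸ this

theorem equidim_noEmbedded_of_isDomain (R : Type u) [CommRing R] [IsDomain R] :
    EGA4.IsEquidim R ∧ ∀ p ∈ associatedPrimes R R, p ∈ minimalPrimes R := by
  refine ⟨fun p hp => ?_, fun p hp => ?_⟩
  · rw [IsDomain.minimalPrimes_eq_singleton_bot, Set.mem_singleton_iff] at hp
    subst hp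
    exact ringKrullDim_eq_of_ringEquiv (RingEquiv.quotientBot R)
  · rw [IsDomain.minimalPrimes_eq_singleton_bot, Set.mem_singleton_iff]
    obtain ⟨hpp, a, ha⟩ := hp
    have ha0 : a ≠ 0 := by
      rintro rfl
      apply hpp.ne_top
      rw [ha, Ideal.radical_eq_top, Ideal.eq_top_iff_one, Submodule.mem_colon_singleton, Submodule.mem_bot, smul_zero]
    rw [eq_bot_iff]
    intro r hr
    rw [ha] at hr
    obtain ⟨n, hn⟩ := hr
    rw [Submodule.mem_colon_singleton, Submodule.mem_bot, smul_eq_mul, mul_eq_zero] at hn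
    exact (Submodule.mem_bot R).mpr (eq_zero_of_pow_eq_zero (hn.resolve_right ha0))

theorem isOpen_normalFin_of_flat [Flat f] : IsOpen (NormalFin f) := by
  convert (isOpen_geomRk_equidim_noEmbedded f 1).inter (isOpen_hasSk_ring f 2) using 1
  ext x
  constructor
  · intro h
    haveI := isDomain_of_mem_normalFin f h
    obtain ⟨h1, h2⟩ := (normalFin_iff f x).mp h
    exact ⟨⟨(forall_finite_hasRk_iff f 1 x).mpr h1, equidim_noEmbedded_of_isDomain _⟩, h2⟩
  · rintro ⟨⟨h1, -⟩, h2⟩
    exact (normalFin_iff f x).mpr ⟨(forall_finite_hasRk_iff f 1 x).mp h1, h2⟩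

theorem mem_smLocus_iff_of_flat {x : X} (hx : (f.stalkMap x).hom.Flat) : x ∈ SmLocus f ↔ x ∈ f.smoothLocus := by
  rw [Groth.FibrewiseCrit.mem_smoothLocus_iff_flat_and_fibre]
  exact ⟨fun h => ⟨hx, h⟩, fun h => h.2⟩

/-- Openness of geometric normality of the fibre together with flatness. -/
theorem isOpen_flat_and_normalFin : IsOpen {x : X | (f.stalkMap x).hom.Flat ∧ x ∈ NormalFin f} := by
  let U : X.Opens := ⟨_, isOpen_flatLocus_hom f⟩
  let g := U.ι ≫ f
  haveI : Flat g := (Flat.iff_flat_stalkMap _).mpr fun w => by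
    rw [Scheme.Hom.stalkMap_comp]
    exact RingHom.Flat.comp w.2 (Flat.stalkMap U.ι w)
  have hpsdm : ∀ w : (U : Scheme.{u}), psdm g (Coh.structureModule U) w = psdm f (Coh.structureModule X) (U.ι w) := fun w => by
    obtain ⟨e⟩ := exists_fibreStalk_equiv_comp U.ι f w
    rw [← (ring_invariants g w).2.1, ← (ring_invariants f (U.ι w)).2.1]
    exact ringKrullDim_eq_of_ringEquiv e
  have hsm : ∀ w : (U : Scheme.{u}), w ∈ SmLocus g ↔ U.ι w ∈ SmLocus f := fun w => by
    rw [mem_smLocus_iff_of_flat g (Flat.stalkMap g w), mem_smLocus_iff_of_flat f (x := U.ι w) w.2,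
      Groth.FibrewiseCrit.mem_smoothLocus_comp_left]
  have hiff : ∀ w : (U : Scheme.{u}), w ∈ NormalFin g ↔ U.ι w ∈ NormalFin f := fun w => by
    rw [normalFin_iff, normalFin_iff]
    refine and_congr ⟨fun h z hzx hf hd => ?_, fun h z hzx hf hd => ?_⟩ ?_
    · obtain ⟨z', rfl⟩ := hzx.mem_open U.ι.isOpenEmbedding.isOpen_range ⟨w, rfl⟩
      exact (hsm z').mp (h z' (U.ι.isOpenEmbedding.isInducing.specializes_iff.1 hzx) hf ((hpsdm z').trans_le hd))
    · exact (hsm z).mpr (h (U.ι z) (hzx.map U.ι.continuous) hf ((hpsdm z).symm.trans_le hd))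
    · obtain ⟨e⟩ := exists_fibreStalk_equiv_comp U.ι f w
      exact hasSk_ringEquiv e 2
  convert U.ι.isOpenEmbedding.isOpenMap _ (isOpen_normalFin_of_flat g) using 1
  ext x
  constructor
  · rintro ⟨h1, h2⟩
    exact ⟨⟨x, h1⟩, (hiff ⟨x, h1⟩).mpr h2, rfl⟩
  · rintro ⟨w, hw, rfl⟩
    exact ⟨w.2, (hiff w).mp hw⟩

theorem isOpen_forall_normalFin [IsProper f] [Flat f] :
    IsOpen {y : Y | ∀ x : ↥(f.fiber y), ∀ (K : Type u) [Field K] [Algebra (IsLocalRing.ResidueField (Y.presheaf.stalk y)) K],
        Module.Finite (IsLocalRing.ResidueField (Y.presheaf.stalk y)) K →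
        ∀ x' : ↥(FBase.bc (f.fiberToSpecResidueField y) K),
          (FBase.bcπ (f.fiberToSpecResidueField y) K).base x' = x →
          IsDomain ((FBase.bc (f.fiberToSpecResidueField y) K).presheaf.stalk x') ∧
            IsIntegrallyClosed ((FBase.bc (f.fiberToSpecResidueField y) K).presheaf.stalk x')} :=
  isOpen_forall_fibre f _ (isOpen_normalFin_of_flat f)

theorem isOpen_forall_smooth [IsProper f] [Flat f] : IsOpen {y : Y | Smooth (f.fiberToSpecResidueField y)} := by
  have h : IsOpen {x : X | f.asFiber x ∈ (f.fiberToSpecResidueField (f.base x)).smoothLocus} :=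
    isClosed_compl_iff.mp (isClosed_compl_smLocus f)
  convert isOpen_forall_fibre f (fun y v => v ∈ (f.fiberToSpecResidueField y).smoothLocus) h using 1
  ext y
  show Smooth _ ↔ ∀ v, v ∈ _
  rw [← Scheme.Hom.smoothLocus_eq_top_iff, eq_top_iff]
  exact ⟨fun h v => h trivial, fun h v _ => h v⟩

end Groth.Agent.GeomRk
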